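import Mathlib

/-!
# Weight vectors of the adjoint representation of a simple Lie algebra
-/

set_option autoImplicit false
set_option linter.all false

universe u v w

open LieAlgebra LieModule Module

noncomputable section

namespace GrothLib.AdjVar13

variable {ι : Type u} {K : Type v} {L : Type w} [Fintype ι] [Field K] [CharZero K]
  [IsAlgClosed K] [LieRing L] [LieAlgebra K L] [FiniteDimensional K L] [LieAlgebra.IsSimple K L]
  {H : LieSubalgebra K L} [H.IsCartanSubalgebra]

variable (H) in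
/-- The root space as a submodule. -/
abbrev R (χ : Module.Dual K H) : Submodule K L := (rootSpace H χ).toSubmodule

theorem lie_eq_of_mem {χ : Module.Dual K H} {x : L} (hx : x ∈ R H χ) (h : H) :
    ⁅(h : L), x⁆ = χ h • x :=
  IsKilling.lie_eq_smul_of_mem_rootSpace hx h

theorem mem_R {χ : Module.Dual K H} {x : L} (hx : ∀ h : H, ⁅(h : L), x⁆ = χ h • x) : x ∈ R H χ := by
  show x ∈ genWeightSpace L (χ : H → K)
  rw [mem_genWeightSpace]
  intro h
  refine ⟨1, ?_⟩
  simpa [sub_eq_zero] using hx h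

theorem lie_mem_R {χ ψ : Module.Dual K H} {x y : L} (hx : x ∈ R H χ) (hy : y ∈ R H ψ) :
    ⁅x, y⁆ ∈ R H (χ + ψ) :=
  mem_R fun h => by
    rw [leibniz_lie, lie_eq_of_mem hx, lie_eq_of_mem hy, smul_lie, lie_smul, ← add_smul]
    rfl

variable (b : LieAlgebra.Basis ι H)

theorem e_mem (i : ι) : b.e i ∈ R H (b.baseSupp i) :=
  mem_R fun h => (b.baseSupp_apply_smul_e i h).symm

theorem f_mem (i : ι) : b.f i ∈ R H (-b.baseSupp i) :=
  mem_R fun h => by
    rw [LinearMap.neg_apply, neg_smul, b.baseSupp_apply_smul_f, neg_neg]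
    rfl

theorem lie_e_mem {χ : Module.Dual K H} {x : L} (hx : x ∈ R H χ) (i : ι) :
    ⁅b.e i, x⁆ ∈ R H (χ + b.baseSupp i) := by
  rw [add_comm]; exact lie_mem_R (e_mem b i) hx

theorem lie_f_mem {χ : Module.Dual K H} {x : L} (hx : x ∈ R H χ) (i : ι) :
    ⁅b.f i, x⁆ ∈ R H (χ - b.baseSupp i) := by
  rw [sub_eq_add_neg, add_comm]; exact lie_mem_R (f_mem b i) hx

theorem lie_h_eq {χ : Module.Dual K H} {x : L} (hx : x ∈ R H χ) (i : ι) :
    ⁅b.h i, x⁆ = χ (b.h' i) • x :=
  lie_eq_of_mem hx (b.h' i)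

include b in
/-- A nonzero subspace stable under the Chevalley generators is everything. -/
theorem eq_top_of_stable (S : Submodule K L) (he : ∀ i, ∀ y ∈ S, ⁅b.e i, y⁆ ∈ S)
    (hf : ∀ i, ∀ y ∈ S, ⁅b.f i, y⁆ ∈ S) (hS : S ≠ ⊥) : S = ⊤ := by
  have hall : ∀ x : L, ∀ y ∈ S, ⁅x, y⁆ ∈ S := by
    intro x
    have hx : x ∈ LieSubalgebra.lieSpan K L (Set.range b.e ∪ Set.range b.f) := by
      rw [b.span_ef]; trivial
    induction hx using LieSubalgebra.lieSpan_induction with
    | mem u hu =>
      rcases hu with ⟨i, rfl⟩ | ⟨i, rfl⟩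
      · exact he i
      · exact hf i
    | zero => intro y _; rw [zero_lie]; exact S.zero_mem
    | add u v _ _ hu hv => intro y hy; rw [add_lie]; exact S.add_mem (hu y hy) (hv y hy)
    | smul t u _ hu => intro y hy; rw [smul_lie]; exact S.smul_mem t (hu y hy)
    | lie u v _ _ hu hv =>
      intro y hy; rw [lie_lie]; exact S.sub_mem (hu _ (hv y hy)) (hv _ (hu y hy))
  let I : LieIdeal K L := { S with lie_mem := fun {x y} hy => hall x y hy }
  rcases LieAlgebra.IsSimple.eq_bot_or_eq_top I with h | h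
  · exact (hS ((congrArg LieSubmodule.toSubmodule h).trans LieSubmodule.bot_toSubmodule)).elim
  · exact (congrArg LieSubmodule.toSubmodule h).trans LieSubmodule.top_toSubmodule

/-- The monomials in the lowering generators applied to a vector. -/
def word (x : L) : List ι → L
  | [] => x
  | i :: l => ⁅b.f i, word x l⁆

/-- The sum of simple roots with multiplicities. -/
def cnt (n : ι → ℕ) : Module.Dual K H := ∑ i, (n i : K) • b.baseSupp i

theorem cnt_add (n m : ι → ℕ) : cnt b (n + m) = cnt b n + cnt b m := by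
  simp [cnt, add_smul, Finset.sum_add_distrib]

theorem cnt_zero : cnt b 0 = 0 := by simp [cnt]

theorem cnt_single [DecidableEq ι] (i : ι) : cnt b (Pi.single i 1) = b.baseSupp i := by
  rw [cnt, Finset.sum_eq_single i] <;> simp +contextual [Pi.single_apply]

theorem cnt_injective : Function.Injective (cnt b) := fun n m h => by
  funext i
  have := Fintype.linearIndependent_iffₛ.1 b.linearIndependent_baseSupp (fun i => (n i : K)) (fun i => (m i : K)) h i
  exact_mod_cast this

open Classical in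
theorem word_mem {χ : Module.Dual K H} {x : L} (hx : x ∈ R H χ) :
    ∀ l : List ι, word b x l ∈ R H (χ - cnt b (fun i => l.count i))
  | [] => by simpa [cnt, word] using hx
  | i :: l => by
    have h := lie_f_mem b (word_mem hx l) i
    have e : (fun k => (i :: l).count k) = (fun k => l.count k) + Pi.single i 1 := by
      funext k
      by_cases hk : i = k <;> simp [hk, List.count_cons, Pi.single_apply, eq_comm]
    rw [e, cnt_add, cnt_single, ← sub_sub]
    exact h

theorem span_words_eq_top {χ : Module.Dual K H} {x : L} (hx : x ∈ R H χ) (hx0 : x ≠ 0)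
    (hk : ∀ i, ⁅b.e i, x⁆ = 0) : Submodule.span K (Set.range (word b x)) = ⊤ := by
  classical
  refine eq_top_of_stable b _ ?_ ?_ fun h => hx0 (by
    have h1 : x ∈ Submodule.span K (Set.range (word b x)) := Submodule.subset_span ⟨[], rfl⟩
    rw [h] at h1
    simpa using h1)
  · intro k y hy
    induction hy using Submodule.span_induction with
    | mem y hy =>
      obtain ⟨l, rfl⟩ := hy
      induction l with
      | nil => rw [word, hk]; exact Submodule.zero_mem _
      | cons i l ih =>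
        rw [word, leibniz_lie]
        refine Submodule.add_mem _ ?_ ?_
        · by_cases hki : k = i
          · subst hki
            rw [(b.sl2 k).lie_e_f, lie_h_eq b (word_mem b hx l)]
            exact Submodule.smul_mem _ _ (Submodule.subset_span ⟨l, rfl⟩)
          · rw [b.lie_e_f_ne k i hki, zero_lie]; exact Submodule.zero_mem _
        · have : ∀ z ∈ Submodule.span K (Set.range (word b x)), ⁅b.f i, z⁆ ∈ Submodule.span K (Set.range (word b x)) := by
            intro z hz
            induction hz using Submodule.span_induction with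
            | mem z hz => obtain ⟨m, rfl⟩ := hz; exact Submodule.subset_span ⟨i :: m, rfl⟩
            | zero => rw [lie_zero]; exact Submodule.zero_mem _
            | add a c _ _ ha hc => rw [lie_add]; exact Submodule.add_mem _ ha hc
            | smul t a _ ha => rw [lie_smul]; exact Submodule.smul_mem _ t ha
          exact this _ ih
    | zero => rw [lie_zero]; exact Submodule.zero_mem _
    | add a c _ _ ha hc => rw [lie_add]; exact Submodule.add_mem _ ha hc
    | smul t a _ ha => rw [lie_smul]; exact Submodule.smul_mem _ t ha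
  · intro k y hy
    induction hy using Submodule.span_induction with
    | mem y hy => obtain ⟨l, rfl⟩ := hy; exact Submodule.subset_span ⟨k :: l, rfl⟩
    | zero => rw [lie_zero]; exact Submodule.zero_mem _
    | add a c _ _ ha hc => rw [lie_add]; exact Submodule.add_mem _ ha hc
    | smul t a _ ha => rw [lie_smul]; exact Submodule.smul_mem _ t ha

theorem iSupIndep_R : iSupIndep (R H) :=
  (LieSubmodule.iSupIndep_toSubmodule.mpr (iSupIndep_genWeightSpace K H L)).comp DFunLike.coe_injective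

theorem eq_zero_of_mem_biSup {ψ : Module.Dual K H} {s : Set (Module.Dual K H)} (hψ : ψ ∉ s) {x : L}
    (hx : x ∈ R H ψ) (hx' : x ∈ ⨆ φ ∈ s, R H φ) : x = 0 := by
  have h := iSupIndep_R.disjoint_biSup (x := ψ) (y := s) hψ
  exact Submodule.disjoint_def.1 h x hx hx'

open Classical in
/-- A weight space is spanned by the monomials of that weight. -/
theorem R_le_span_words {χ : Module.Dual K H} {x : L} (hx : x ∈ R H χ) (hx0 : x ≠ 0)
    (hk : ∀ i, ⁅b.e i, x⁆ = 0) (ψ : Module.Dual K H) :
    R H ψ ≤ Submodule.span K (word b x '' {l | χ - cnt b (fun i => l.count i) = ψ}) := by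
  intro y hy
  let P := Submodule.span K (word b x '' {l | χ - cnt b (fun i => l.count i) = ψ})
  have htop : (⊤ : Submodule K L) ≤ P ⊔ ⨆ φ ∈ ({ψ}ᶜ : Set (Module.Dual K H)), R H φ := by
    rw [← span_words_eq_top b hx hx0 hk, Submodule.span_le]
    rintro _ ⟨l, rfl⟩
    by_cases hl : χ - cnt b (fun i => l.count i) = ψ
    · exact Submodule.mem_sup_left (Submodule.subset_span ⟨l, hl, rfl⟩)
    · exact Submodule.mem_sup_right (Submodule.mem_iSup_of_mem _ (Submodule.mem_iSup_of_mem hl (word_mem b hx l)))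
  obtain ⟨p, hp, q, hq, rfl⟩ := Submodule.mem_sup.1 (htop (Submodule.mem_top (x := y)))
  have hpR : p ∈ R H ψ := Submodule.span_le.2 (by rintro _ ⟨l, hl, rfl⟩; exact hl ▸ word_mem b hx l) hp
  have : q = 0 := eq_zero_of_mem_biSup (ψ := ψ) (s := ({ψ}ᶜ : Set (Module.Dual K H))) (by simp) (by simpa using (R H ψ).sub_mem hy hpR) hq
  rw [this, add_zero]
  exact hp

theorem exists_sub_cnt {χ : Module.Dual K H} {x : L} (hx : x ∈ R H χ) (hx0 : x ≠ 0)
    (hk : ∀ i, ⁅b.e i, x⁆ = 0) {ψ : Module.Dual K H} (hψ : R H ψ ≠ ⊥) :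
    ∃ n, ψ = χ - cnt b n := by
  classical
  by_contra h
  push Not at h
  refine hψ (eq_bot_iff.2 ((R_le_span_words b hx hx0 hk ψ).trans ?_))
  rw [Submodule.span_le]
  rintro _ ⟨l, hl, rfl⟩
  exact absurd hl.symm (h _)

theorem R_le_span_singleton {χ : Module.Dual K H} {x : L} (hx : x ∈ R H χ) (hx0 : x ≠ 0)
    (hk : ∀ i, ⁅b.e i, x⁆ = 0) : R H χ ≤ K ∙ x := by
  classical
  refine (R_le_span_words b hx hx0 hk χ).trans (Submodule.span_le.2 ?_)
  rintro _ ⟨l, hl, rfl⟩
  have h0 : (fun i => l.count i) = 0 := cnt_injective b (by rw [cnt_zero]; exact sub_eq_self.1 hl)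
  cases l with
  | nil => exact Submodule.mem_span_singleton_self x
  | cons i l => simpa using congrFun h0 i

/-- Components of a vector of a stable subspace lie in the subspace. -/
theorem component_mem {α σ : Type*} (T : α → L →ₗ[K] L) (W : Submodule K L)
    (hW : ∀ a, ∀ y ∈ W, T a y ∈ W) (χ : σ → α → K) (s : Finset σ) (hinj : Set.InjOn χ s) :
    ∀ (y : σ → L), (∀ c ∈ s, ∀ a, T a (y c) = χ c a • y c) → ∑ c ∈ s, y c ∈ W → ∀ c ∈ s, y c ∈ W := by
  classical
  induction s using Finset.induction with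
  | empty => simp
  | insert a s ha ih =>
    intro y hy hsum
    have hs : ∀ c ∈ s, y c ∈ W := by
      intro c hc
      have hne : χ c ≠ χ a := fun h => ha (hinj (by simp [hc]) (by simp) h ▸ hc)
      obtain ⟨t, ht⟩ := Function.ne_iff.1 hne
      have key := ih (hinj.mono (by simp)) (fun c => (χ c t - χ a t) • y c)
        (fun c hc a' => by rw [map_smul, hy c (Finset.mem_insert_of_mem hc), smul_comm])
        (by
          have h1 := W.sub_mem (hW t _ hsum) (W.smul_mem (χ a t) hsum)
          rw [map_sum, Finset.smul_sum, ← Finset.sum_sub_distrib, Finset.sum_insert ha,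
            hy a (Finset.mem_insert_self a s), sub_self, zero_add] at h1
          convert h1 using 2 with d hd
          rw [hy d (Finset.mem_insert_of_mem hd), sub_smul])
        c hc
      exact (W.smul_mem_iff (sub_ne_zero.2 ht)).1 key
    intro c hc
    rcases Finset.mem_insert.1 hc with rfl | hc
    · rw [Finset.sum_insert ha] at hsum
      exact (W.add_mem_iff_left (W.sum_mem hs)).1 hsum
    · exact hs c hc

section highest

variable (ρ : Module.Dual K H) (hρ : rootSpace H ρ ≠ ⊥) (htop : ∀ i, rootSpace H (ρ + b.baseSupp i) = ⊥)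

include htop in
theorem lie_e_eq_zero {v : L} (hv : v ∈ R H ρ) (i : ι) : ⁅b.e i, v⁆ = 0 := by
  have : ⁅b.e i, v⁆ ∈ rootSpace H (ρ + b.baseSupp i) := lie_e_mem b hv i
  rw [htop i] at this
  simpa using this

include hρ in
theorem exists_top_vector : ∃ v : L, v ∈ R H ρ ∧ v ≠ 0 := by
  obtain ⟨v, hv, hv0⟩ := (Submodule.ne_bot_iff (R H ρ)).1 (by simpa [R] using hρ)
  exact ⟨v, hv, hv0⟩

include hρ htop in
theorem exists_depth {ψ : Module.Dual K H} {x : L} (hx : x ∈ R H ψ) (hx0 : x ≠ 0) :
    ∃ n, ψ = ρ - cnt b n := by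
  obtain ⟨v, hv, hv0⟩ := exists_top_vector ρ hρ
  exact exists_sub_cnt b hv hv0 (lie_e_eq_zero b ρ htop hv) fun h => hx0 (by rw [h] at hx; simpa using hx)

include hρ htop in
theorem weight_eq_of_killed {ψ : Module.Dual K H} {x : L} (hx : x ∈ R H ψ) (hx0 : x ≠ 0)
    (hk : ∀ i, ⁅b.e i, x⁆ = 0) : ψ = ρ := by
  obtain ⟨v, hv, hv0⟩ := exists_top_vector ρ hρ
  obtain ⟨m, hm⟩ := exists_depth b ρ hρ htop hx hx0
  obtain ⟨n, hn⟩ := exists_sub_cnt b hx hx0 hk (ψ := ρ) fun h => hv0 (by rw [h] at hv; simpa using hv)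
  have h0 : cnt b (m + n) = cnt b 0 := by
    rw [cnt_add, cnt_zero]
    rw [hm] at hn
    linear_combination (norm := abel) hn
  have := cnt_injective b h0
  have hm0 : m = 0 := funext fun i => Nat.eq_zero_of_add_eq_zero_right (congrFun this i)
  rw [hm, hm0, cnt_zero, sub_zero]

variable (W : Submodule K L) (hWH : ∀ h : H, ∀ y ∈ W, ⁅(h : L), y⁆ ∈ W)
  (hWe : ∀ i, ∀ y ∈ W, ⁅b.e i, y⁆ ∈ W)

include hρ htop hWH in
theorem exists_weight_vector_notMem {P : Submodule K L} (hP : ¬ W ≤ P) :
    ∃ (n : ι → ℕ) (x : L), x ∈ R H (ρ - cnt b n) ∧ x ∈ W ∧ x ∉ P := by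
  classical
  obtain ⟨y, hyW, hyP⟩ := SetLike.not_le_iff_exists.1 hP
  obtain ⟨v, hv, hv0⟩ := exists_top_vector ρ hρ
  have hy : y ∈ ⨆ n, R H (ρ - cnt b n) := by
    have h : (⊤ : Submodule K L) ≤ ⨆ n, R H (ρ - cnt b n) := by
      rw [← span_words_eq_top b hv hv0 (lie_e_eq_zero b ρ htop hv), Submodule.span_le]
      rintro _ ⟨l, rfl⟩
      exact Submodule.mem_iSup_of_mem _ (word_mem b hv l)
    exact h Submodule.mem_top
  obtain ⟨c, hc, hsum⟩ := (Submodule.mem_iSup_iff_exists_finsupp _ y).1 hy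
  have hmem : ∀ n ∈ c.support, c n ∈ W := component_mem (α := H) (fun h => LieAlgebra.ad K L (h : L)) W hWH
    (fun n => ⇑(ρ - cnt b n)) c.support
    (fun n _ m _ h => cnt_injective b (sub_right_injective (DFunLike.coe_injective h)))
    c (fun n _ h => lie_eq_of_mem (hc n) h) (by
      show c.sum (fun _ a => a) ∈ W
      rw [hsum]; exact hyW)
  by_contra hall
  push Not at hall
  apply hyP
  rw [← hsum]
  exact P.sum_mem fun n hn => hall n (c n) (hc n) (hmem n hn)

include hρ htop hWH hWe in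
theorem exists_raise_into {P : Submodule K L} (hP : ¬ W ≤ P) :
    ∃ (n : ι → ℕ) (x : L), x ∈ R H (ρ - cnt b n) ∧ x ∈ W ∧ x ∉ P ∧ ∀ i, ⁅b.e i, x⁆ ∈ P := by
  classical
  obtain ⟨n₀, hn₀⟩ := exists_weight_vector_notMem b ρ hρ htop W hWH hP
  let Q : ℕ → Prop := fun d => ∃ n : ι → ℕ, ∑ i, n i = d ∧ ∃ x, x ∈ R H (ρ - cnt b n) ∧ x ∈ W ∧ x ∉ P
  have hQ : ∃ d, Q d := ⟨_, n₀, rfl, hn₀⟩
  obtain ⟨n, hn, x, hx, hxW, hxP⟩ := Nat.find_spec hQ
  refine ⟨n, x, hx, hxW, hxP, fun i => ?_⟩
  by_contra hi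
  have hR := lie_e_mem b hx i
  have h0 : ⁅b.e i, x⁆ ≠ 0 := fun h => hi (h ▸ P.zero_mem)
  obtain ⟨m, hm⟩ := exists_depth b ρ hρ htop hR h0
  have he : cnt b n = cnt b (m + Pi.single i 1) := by
    rw [cnt_add, cnt_single]
    linear_combination (norm := abel) -hm
  have hn' := cnt_injective b he
  refine Nat.find_min hQ (m := ∑ i, m i) ?_ ⟨m, rfl, _, hm ▸ hR, hWe i x hxW, hi⟩
  rw [← hn, hn']
  simp [Finset.sum_add_distrib]

end highest

end GrothLib.AdjVar13
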