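import Groth.Agent.Lib.AdjVar13.Basic

/-!
# The Borel-stable line and planes of the adjoint variety
-/

set_option autoImplicit false
set_option linter.all false

universe u v w

open LieAlgebra LieModule Module

noncomputable section

namespace GrothLib.AdjVar13

variable {ι : Type u} {K : Type v} {L : Type w} [Fintype ι] [Field K] [CharZero K]
  [IsAlgClosed K] [LieRing L] [LieAlgebra K L] [FiniteDimensional K L] [LieAlgebra.IsSimple K L]
  {H : LieSubalgebra K L} [H.IsCartanSubalgebra] (b : LieAlgebra.Basis ι H)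

theorem baseSupp_self (i : ι) : b.baseSupp i (b.h' i) = 2 := by
  have h1 : b.baseSupp i (b.h' i) • b.e i = ⁅b.h i, b.e i⁆ := b.baseSupp_apply_smul_e i (b.h' i)
  rw [(b.sl2 i).lie_h_e_smul K] at h1
  exact smul_left_injective K (b.sl2 i).e_ne_zero h1

theorem eq_zero_of_ne {φ ψ : Dual K H} (hne : φ ≠ ψ) {x : L} (hx : x ∈ R H φ) (hx' : x ∈ R H ψ) : x = 0 :=
  eq_zero_of_mem_biSup (ψ := φ) (s := ({ψ} : Set (Dual K H))) (by simpa using hne) hx (by simpa using hx')

/-- A nonzero weight vector in the sum of two weight lines has one of the two weights. -/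
theorem eq_or_eq_of_mem_sup {φ a c : Dual K H} {x : L} (hx : x ∈ R H φ) (hx0 : x ≠ 0)
    (h : x ∈ R H a ⊔ R H c) : φ = a ∨ φ = c := by
  by_contra hne
  push Not at hne
  refine hx0 (eq_zero_of_mem_biSup (ψ := φ) (s := ({a, c} : Set (Dual K H))) (by simp [hne]) hx ?_)
  rwa [iSup_pair]

variable (ρ : Dual K H) (hρ : rootSpace H ρ ≠ ⊥) (htop : ∀ i, rootSpace H (ρ + b.baseSupp i) = ⊥)
  (j : ι) (hN : ∀ i, ρ (b.h' i) ≠ 0 ↔ i = j) (hj : ρ (b.h' j) = 1)
  {v : L} (hv : v ∈ R H ρ) (hv0 : v ≠ 0)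

include htop hv hv0 in
theorem R_top : R H ρ = K ∙ v :=
  le_antisymm (R_le_span_singleton b hv hv0 (lie_e_eq_zero b ρ htop hv))
    ((Submodule.span_singleton_le_iff_mem _ _).2 hv)

include hN hj in
theorem rho_ne_base (i : ι) : ρ ≠ b.baseSupp i := by
  intro h
  have h2 : ρ (b.h' i) = 2 := by rw [h, baseSupp_self]
  have hij : i = j := (hN i).1 (by rw [h2]; norm_num)
  subst hij
  rw [hj] at h2
  norm_num at h2

include htop hv in
theorem lie_e_f_top [DecidableEq ι] (k i : ι) :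
    ⁅b.e k, ⁅b.f i, v⁆⁆ = if k = i then ρ (b.h' i) • v else 0 := by
  rw [leibniz_lie, lie_e_eq_zero b ρ htop hv k, lie_zero, add_zero]
  split_ifs with h
  · subst h; rw [(b.sl2 k).lie_e_f, lie_h_eq b hv]
  · rw [b.lie_e_f_ne k i h, zero_lie]

include hρ htop hN hv in
theorem lie_f_top_eq_zero {i : ι} (hij : i ≠ j) : ⁅b.f i, v⁆ = 0 := by
  classical
  have h0 : ρ (b.h' i) = 0 := by
    by_contra h; exact hij ((hN i).1 h)
  by_contra hne
  have h := weight_eq_of_killed b ρ hρ htop (lie_f_mem b hv i) hne fun k => by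
    rw [lie_e_f_top b ρ htop hv k i]
    split_ifs <;> simp [h0]
  exact b.linearIndependent_baseSupp.ne_zero i (sub_eq_self.1 h)

include htop hj hv in
theorem lie_e_u [DecidableEq ι] (k : ι) : ⁅b.e k, ⁅b.f j, v⁆⁆ = if k = j then v else 0 := by
  rw [lie_e_f_top b ρ htop hv k j, hj, one_smul]

include htop hj hv hv0 in
theorem u_ne_zero : ⁅b.f j, v⁆ ≠ 0 := by
  classical
  intro h
  have := lie_e_u b ρ htop j hj hv j
  rw [h, lie_zero, if_pos rfl] at this
  exact hv0 this.symm

include htop hv hv0 in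
/-- Below the top, weight spaces are reached by lowering. -/
theorem R_le_lower {ψ : Dual K H} (hψ : ψ ≠ ρ) :
    R H ψ ≤ ⨆ a, (R H (ψ + b.baseSupp a)).map (LieAlgebra.ad K L (b.f a)) := by
  classical
  refine (R_le_span_words b hv hv0 (lie_e_eq_zero b ρ htop hv) ψ).trans (Submodule.span_le.2 ?_)
  rintro _ ⟨l, hl, rfl⟩
  cases l with
  | nil => exact absurd (by simpa [cnt] using hl) (Ne.symm hψ)
  | cons a l =>
    refine Submodule.mem_iSup_of_mem a (Submodule.mem_map.2 ⟨word b v l, ?_, rfl⟩)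
    convert word_mem b hv l using 2
    rw [← hl]
    have e : (fun k => (a :: l).count k) = (fun k => l.count k) + Pi.single a 1 := by
      funext k
      by_cases hk : a = k <;> simp [hk, List.count_cons, Pi.single_apply, eq_comm]
    rw [e, cnt_add, cnt_single]
    abel

include hρ htop hN hv hv0 in
theorem R_sub_le (i : ι) : R H (ρ - b.baseSupp i) ≤ K ∙ ⁅b.f i, v⁆ := by
  classical
  refine (R_le_lower b ρ htop hv hv0 fun h => b.linearIndependent_baseSupp.ne_zero i (sub_eq_self.1 h)).trans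
    (iSup_le fun a => ?_)
  rintro _ ⟨y, hy, rfl⟩
  by_cases hy0 : y = 0
  · simp [hy0]
  obtain ⟨n, hn⟩ := exists_depth b ρ hρ htop hy hy0
  have : Pi.single i 1 = n + Pi.single a 1 := cnt_injective b (by
    rw [cnt_add, cnt_single, cnt_single]; linear_combination (norm := abel) -hn)
  have hai : a = i := by
    by_contra h
    have := congrFun this a
    simp [Pi.single_apply, h] at this
  subst hai
  rw [sub_add_cancel, R_top b ρ htop hv hv0] at hy
  obtain ⟨c, rfl⟩ := Submodule.mem_span_singleton.1 hy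
  exact Submodule.mem_span_singleton.2 ⟨c, by simp⟩

include hρ htop hN hv hv0 in
theorem eq_j_of_mem {i : ι} {x : L} (hx : x ∈ R H (ρ - b.baseSupp i)) (hx0 : x ≠ 0) : i = j := by
  by_contra hij
  have := R_sub_le b ρ hρ htop j hN hv hv0 i hx
  rw [lie_f_top_eq_zero b ρ hρ htop j hN hv hij] at this
  exact hx0 (by simpa using this)

include hρ htop hN hj hv hv0 in
theorem R_sub_two_eq_bot : R H (ρ - b.baseSupp j - b.baseSupp j) = ⊥ := by
  classical
  rw [eq_bot_iff]
  intro x hx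
  by_contra hx0
  have hne : ρ - b.baseSupp j - b.baseSupp j ≠ ρ := fun h => by
    have := congrArg (fun φ : Dual K H => φ (b.h' j)) h
    simp only [LinearMap.sub_apply, hj, baseSupp_self] at this
    norm_num at this
  have h1 := weight_eq_of_killed b ρ hρ htop hx (by simpa using hx0) ?_
  · exact hne h1
  intro k
  have hxs : x ∈ K ∙ ⁅b.f j, ⁅b.f j, v⁆⁆ := by
    refine (R_le_lower b ρ htop hv hv0 hne).trans (iSup_le fun a => ?_) hx
    rintro _ ⟨y, hy, rfl⟩
    by_cases hy0 : y = 0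
    · simp [hy0]
    obtain ⟨n, hn⟩ := exists_depth b ρ hρ htop hy hy0
    have : Pi.single j 1 + Pi.single j 1 = n + Pi.single a 1 := cnt_injective b (by
      rw [cnt_add, cnt_add, cnt_single, cnt_single]; linear_combination (norm := abel) -hn)
    have hai : a = j := by
      by_contra h
      have := congrFun this a
      simp [Pi.single_apply, h] at this
    subst hai
    rw [sub_add_cancel] at hy
    obtain ⟨c, rfl⟩ := Submodule.mem_span_singleton.1 (R_sub_le b ρ hρ htop a hN hv hv0 a hy)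
    exact Submodule.mem_span_singleton.2 ⟨c, by simp⟩
  obtain ⟨c, rfl⟩ := Submodule.mem_span_singleton.1 hxs
  rw [lie_smul, leibniz_lie, lie_e_u b ρ htop j hj hv k]
  by_cases hk : k = j
  · subst hk
    rw [if_pos rfl, (b.sl2 k).lie_e_f, lie_h_eq b (lie_f_mem b hv k), LinearMap.sub_apply, hj, baseSupp_self]
    norm_num
    rw [← lie_skew v (b.f k), smul_neg, neg_add_cancel]
  · rw [if_neg hk, b.lie_e_f_ne k j hk]; simp

include hρ htop hN hv hv0 in
theorem R_three_le {i : ι} (hij : i ≠ j) :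
    R H (ρ - b.baseSupp j - b.baseSupp i) ≤ K ∙ ⁅b.f i, ⁅b.f j, v⁆⁆ := by
  classical
  have hne : ρ - b.baseSupp j - b.baseSupp i ≠ ρ := fun h => by
    have h0 : cnt b (Pi.single j 1 + Pi.single i 1) = cnt b 0 := by
      rw [cnt_add, cnt_single, cnt_single, cnt_zero]; linear_combination (norm := abel) -h
    simpa [Pi.single_apply, hij] using congrFun (cnt_injective b h0) i
  refine (R_le_lower b ρ htop hv hv0 hne).trans (iSup_le fun a => ?_)
  rintro _ ⟨y, hy, rfl⟩
  by_cases hy0 : y = 0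
  · simp [hy0]
  obtain ⟨n, hn⟩ := exists_depth b ρ hρ htop hy hy0
  have : Pi.single j 1 + Pi.single i 1 = n + Pi.single a 1 := cnt_injective b (by
    rw [cnt_add, cnt_add, cnt_single, cnt_single, cnt_single]; linear_combination (norm := abel) -hn)
  have hai : a = j ∨ a = i := by
    by_contra h
    push Not at h
    have := congrFun this a
    simp [Pi.single_apply, h.1, h.2] at this
  rcases hai with rfl | rfl
  · rw [show ρ - b.baseSupp a - b.baseSupp i + b.baseSupp a = ρ - b.baseSupp i by abel] at hy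
    exact absurd (eq_j_of_mem b ρ hρ htop a hN hv hv0 hy hy0) hij
  · rw [sub_add_cancel] at hy
    obtain ⟨c, rfl⟩ := Submodule.mem_span_singleton.1 (R_sub_le b ρ hρ htop j hN hv hv0 j hy)
    exact Submodule.mem_span_singleton.2 ⟨c, by simp⟩

theorem lie_f_f_eq_zero {i k : ι} (hik : i ≠ k) (h : b.A k i = 0) : ⁅b.f i, b.f k⁆ = 0 := by
  have hf : b.f k ≠ 0 := (b.sl2 k).f_ne_zero
  have P : (b.sl2 i).HasPrimitiveVectorWith (b.f k) (0 : K) :=
    { ne_zero := hf
      lie_h := by rw [b.lie_h_f, h]; simp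
      lie_e := b.lie_e_f_ne i k hik }
  simpa using P.pow_toEnd_f_eq_zero_of_eq_nat (n := 0) (by simp)

theorem A_eq_zero_comm {i k : ι} (h : b.A i k = 0) : b.A k i = 0 := by
  by_cases hik : i = k
  · rw [hik] at h ⊢; exact h
  have hx : ⁅b.f k, b.f i⁆ = 0 := lie_f_f_eq_zero b (Ne.symm hik) h
  have h1 : ⁅b.e i, ⁅b.f k, b.f i⁆⁆ = 0 := by rw [hx, lie_zero]
  rw [leibniz_lie, b.lie_e_f_ne i k hik, zero_lie, zero_add, (b.sl2 i).lie_e_f,
    ← lie_skew (b.f k) (b.h i), neg_eq_zero, b.lie_h_f, ← Int.cast_smul_eq_zsmul K,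
    smul_eq_zero, Int.cast_eq_zero, neg_eq_zero] at h1
  exact h1.resolve_right (b.sl2 k).f_ne_zero

include hρ htop hN hj hv hv0 in
/-- The raising operators on a vector of weight `ρ - α_j - α_i`. -/
theorem three_data {i : ι} (hij : i ≠ j) {x : L} (hx : x ∈ R H (ρ - b.baseSupp j - b.baseSupp i)) (hx0 : x ≠ 0) :
    b.A i j ≠ 0 ∧ (∀ k, k ≠ i → ⁅b.e k, x⁆ = 0) ∧ ∃ m : K, m ≠ 0 ∧ ⁅b.e i, x⁆ = m • ⁅b.f j, v⁆ := by
  classical
  obtain ⟨c, rfl⟩ := Submodule.mem_span_singleton.1 (R_three_le b ρ hρ htop j hN hv hv0 hij hx)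
  have hc : c ≠ 0 := fun h => hx0 (by simp [h])
  have hkill : ∀ k, k ≠ i → ⁅b.e k, c • ⁅b.f i, ⁅b.f j, v⁆⁆⁆ = 0 := fun k hk => by
    rw [lie_smul, leibniz_lie, b.lie_e_f_ne k i hk, zero_lie, zero_add, lie_e_u b ρ htop j hj hv k]
    split_ifs
    · rw [lie_f_top_eq_zero b ρ hρ htop j hN hv hij, smul_zero]
    · simp
  have hei : ⁅b.e i, c • ⁅b.f i, ⁅b.f j, v⁆⁆⁆ = (-(c * (b.A j i : K))) • ⁅b.f j, v⁆ := by
    rw [lie_smul, leibniz_lie, lie_e_u b ρ htop j hj hv i, if_neg hij, lie_zero, add_zero,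
      (b.sl2 i).lie_e_f, lie_h_eq b (lie_f_mem b hv j), LinearMap.sub_apply, b.baseSupp_apply_h',
      show ρ (b.h' i) = 0 by by_contra h; exact hij ((hN i).1 h), zero_sub, smul_smul, mul_neg]
  have hA : b.A j i ≠ 0 := by
    intro h
    have := weight_eq_of_killed b ρ hρ htop hx hx0 fun k => by
      by_cases hk : k = i
      · rw [hk, hei, h]; simp
      · exact hkill k hk
    have h0 : cnt b (Pi.single j 1 + Pi.single i 1) = cnt b 0 := by
      rw [cnt_add, cnt_single, cnt_single, cnt_zero]; linear_combination (norm := abel) -this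
    simpa [Pi.single_apply, hij] using congrFun (cnt_injective b h0) i
  exact ⟨fun h => hA (A_eq_zero_comm b h), hkill, _, by simp [hc, hA], hei⟩

end GrothLib.AdjVar13
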