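import Groth.Agent.Lib.AdjVar13.Main

/-!
# Borel-stable subspaces of dimension two and three
-/

set_option autoImplicit false
set_option linter.all false

universe u v w

open LieAlgebra LieModule Module

noncomputable section

namespace GrothLib.AdjVar13

variable {ι : Type u} {K : Type v} {L : Type w} [Fintype ι] [Field K] [CharZero K]
  [IsAlgClosed K] [LieRing L] [LieAlgebra K L] [FiniteDimensional K L] [LieAlgebra.IsSimple K L]
  {H : LieSubalgebra K L} [H.IsCartanSubalgebra] (b : LieAlgebra.Basis ι H)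

theorem e_mem_borel (i : ι) : b.e i ∈ H.toSubmodule ⊔ (b.borelUpper : Submodule K L) :=
  Submodule.mem_sup_right (LieSubalgebra.subset_lieSpan ⟨i, rfl⟩)

theorem stable_of_generators (W : Submodule K L) (hH : ∀ h : H, ∀ y ∈ W, ⁅(h : L), y⁆ ∈ W)
    (he : ∀ i, ∀ y ∈ W, ⁅b.e i, y⁆ ∈ W) :
    ∀ x ∈ H.toSubmodule ⊔ (b.borelUpper : Submodule K L), ∀ w ∈ W, ⁅x, w⁆ ∈ W := by
  intro x hx w hw
  obtain ⟨h, hh, n, hn, rfl⟩ := Submodule.mem_sup.1 hx
  rw [add_lie]
  refine W.add_mem (hH ⟨h, hh⟩ w hw) ?_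
  have hn' : n ∈ LieSubalgebra.lieSpan K L (Set.range b.e) := hn
  clear hn hx
  induction hn' using LieSubalgebra.lieSpan_induction generalizing w with
  | mem u hu => obtain ⟨i, rfl⟩ := hu; exact he i w hw
  | zero => rw [zero_lie]; exact W.zero_mem
  | add u t _ _ hu ht => rw [add_lie]; exact W.add_mem (hu w hw) (ht w hw)
  | smul c u _ hu => rw [smul_lie]; exact W.smul_mem c (hu w hw)
  | lie u t _ _ hu ht => rw [lie_lie]; exact W.sub_mem (hu _ (ht w hw)) (ht _ (hu w hw))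

variable (ρ : Dual K H) (hρ : rootSpace H ρ ≠ ⊥) (htop : ∀ i, rootSpace H (ρ + b.baseSupp i) = ⊥)
  (j : ι) (hN : ∀ i, ρ (b.h' i) ≠ 0 ↔ i = j) (hj : ρ (b.h' j) = 1)
  {v : L} (hv : v ∈ R H ρ) (hv0 : v ≠ 0)

include htop hN hj hv hv0 in
theorem u_notMem : ⁅b.f j, v⁆ ∉ K ∙ v := fun h =>
  u_ne_zero b ρ htop j hj hv hv0 (eq_zero_of_ne
    (fun h' => b.linearIndependent_baseSupp.ne_zero j (sub_eq_self.1 h')) (lie_f_mem b hv j)
    ((Submodule.span_singleton_le_iff_mem _ _).2 hv h))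

include hρ htop hN hj hv hv0 in
theorem R_sub_eq : R H (ρ - b.baseSupp j) = K ∙ ⁅b.f j, v⁆ :=
  le_antisymm (R_sub_le b ρ hρ htop j hN hv hv0 j)
    ((Submodule.span_singleton_le_iff_mem _ _).2 (lie_f_mem b hv j))

include htop hN hj hv hv0 in
theorem finrank_line : finrank K ↥((K ∙ v) ⊔ K ∙ ⁅b.f j, v⁆) = 2 := by
  have hu := u_ne_zero b ρ htop j hj hv hv0
  have hd : Disjoint (K ∙ v) (K ∙ ⁅b.f j, v⁆) := by
    rw [Submodule.disjoint_span_singleton' hu]
    exact u_notMem b ρ htop j hN hj hv hv0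
  have h1 := Submodule.finrank_sup_add_finrank_inf_eq (K ∙ v) (K ∙ ⁅b.f j, v⁆)
  rw [hd.eq_bot, finrank_bot, finrank_span_singleton hv0, finrank_span_singleton hu] at h1
  simpa using h1

include hρ htop hN hj hv hv0 in
theorem line_stable : ∀ x ∈ H.toSubmodule ⊔ (b.borelUpper : Submodule K L),
    ∀ w ∈ R H ρ ⊔ R H (ρ - b.baseSupp j), ⁅x, w⁆ ∈ R H ρ ⊔ R H (ρ - b.baseSupp j) := by
  classical
  refine stable_of_generators b _ (fun h y hy => ?_) fun i y hy => ?_
  · obtain ⟨a, ha, c, hc, rfl⟩ := Submodule.mem_sup.1 hy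
    rw [lie_add, lie_eq_of_mem ha, lie_eq_of_mem hc]
    exact Submodule.add_mem_sup ((R H ρ).smul_mem _ ha) ((R H _).smul_mem _ hc)
  · obtain ⟨a, ha, c, hc, rfl⟩ := Submodule.mem_sup.1 hy
    rw [R_sub_eq b ρ hρ htop j hN hj hv hv0] at hc
    obtain ⟨t, rfl⟩ := Submodule.mem_span_singleton.1 hc
    rw [lie_add, lie_e_eq_zero b ρ htop ha, zero_add, lie_smul, lie_e_u b ρ htop j hj hv i]
    refine Submodule.smul_mem _ _ (Submodule.mem_sup_left ?_)
    split_ifs
    · exact hv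
    · exact Submodule.zero_mem _

variable (W : Submodule K L)
  (hst : ∀ x ∈ H.toSubmodule ⊔ (b.borelUpper : Submodule K L), ∀ w ∈ W, ⁅x, w⁆ ∈ W)

include hρ htop hst hv hv0 in
theorem top_mem (hW : W ≠ ⊥) : v ∈ W := by
  obtain ⟨n, x, hx, hxW, hx0, hk⟩ := exists_raise_into b ρ hρ htop W
    (fun h y hy => hst h (Submodule.mem_sup_left h.2) y hy) (fun i => hst _ (e_mem_borel b i))
    (P := ⊥) (fun h => hW (le_bot_iff.1 h))
  rw [Submodule.mem_bot] at hx0
  have hψ := weight_eq_of_killed b ρ hρ htop hx hx0 fun i => (Submodule.mem_bot K).1 (hk i)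
  rw [hψ, R_top b ρ htop hv hv0] at hx
  obtain ⟨c, rfl⟩ := Submodule.mem_span_singleton.1 hx
  exact (W.smul_mem_iff (fun h => hx0 (by simp [h]))).1 hxW

include hρ htop hN hj hst hv hv0 in
theorem line_le (hW : 2 ≤ finrank K W) : R H ρ ⊔ R H (ρ - b.baseSupp j) ≤ W := by
  classical
  have hne : W ≠ ⊥ := fun h => by rw [h, finrank_bot] at hW; omega
  have hvW := top_mem b ρ hρ htop hv hv0 W hst hne
  rw [R_top b ρ htop hv hv0, R_sub_eq b ρ hρ htop j hN hj hv hv0, sup_le_iff,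
    Submodule.span_singleton_le_iff_mem, Submodule.span_singleton_le_iff_mem]
  refine ⟨hvW, ?_⟩
  have hP : ¬ W ≤ K ∙ v := fun h => by
    have := (Submodule.finrank_mono h).trans (finrank_span_singleton hv0).le
    omega
  obtain ⟨n, x, hx, hxW, hxP, hk⟩ := exists_raise_into b ρ hρ htop W
    (fun h y hy => hst h (Submodule.mem_sup_left h.2) y hy) (fun i => hst _ (e_mem_borel b i)) hP
  have hx0 : x ≠ 0 := fun h => hxP (h ▸ Submodule.zero_mem _)
  obtain ⟨i, hi⟩ : ∃ i, ⁅b.e i, x⁆ ≠ 0 := by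
    by_contra h
    push Not at h
    rw [weight_eq_of_killed b ρ hρ htop hx hx0 h, R_top b ρ htop hv hv0] at hx
    exact hxP hx
  have hψ : ρ - cnt b n = ρ - b.baseSupp i := by
    have h1 : ρ - cnt b n + b.baseSupp i = ρ := by
      by_contra hne'
      exact hi (eq_zero_of_ne hne' (lie_e_mem b hx i) ((Submodule.span_singleton_le_iff_mem _ _).2 hv (hk i)))
    linear_combination (norm := abel) h1
  rw [hψ] at hx
  obtain rfl := eq_j_of_mem b ρ hρ htop j hN hv hv0 hx hx0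
  rw [R_sub_eq b ρ hρ htop i hN hj hv hv0] at hx
  obtain ⟨c, rfl⟩ := Submodule.mem_span_singleton.1 hx
  exact (W.smul_mem_iff (fun h => hx0 (by simp [h]))).1 hxW

include hρ htop hN hj hst hv hv0 in
theorem plane_data (hW : finrank K W = 3) :
    ∃ i x, i ≠ j ∧ x ∈ R H (ρ - b.baseSupp j - b.baseSupp i) ∧ x ≠ 0 ∧ x ∉ (K ∙ v) ⊔ K ∙ ⁅b.f j, v⁆ ∧
      W = ((K ∙ v) ⊔ K ∙ ⁅b.f j, v⁆) ⊔ K ∙ x := by
  classical
  let P := (K ∙ v) ⊔ K ∙ ⁅b.f j, v⁆
  have hPR : R H ρ ⊔ R H (ρ - b.baseSupp j) = P := by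
    rw [R_top b ρ htop hv hv0, R_sub_eq b ρ hρ htop j hN hj hv hv0]
  have hPW : P ≤ W := hPR ▸ line_le b ρ hρ htop j hN hj hv hv0 W hst (by omega)
  have hPf : finrank K P = 2 := finrank_line b ρ htop j hN hj hv hv0
  have hP : ¬ W ≤ P := fun h => by have := Submodule.finrank_mono h; omega
  obtain ⟨n, x, hx, hxW, hxP, hk⟩ := exists_raise_into b ρ hρ htop W
    (fun h y hy => hst h (Submodule.mem_sup_left h.2) y hy) (fun i => hst _ (e_mem_borel b i)) hP
  have hx0 : x ≠ 0 := fun h => hxP (h ▸ Submodule.zero_mem _)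
  obtain ⟨i, hi⟩ : ∃ i, ⁅b.e i, x⁆ ≠ 0 := by
    by_contra h
    push Not at h
    rw [weight_eq_of_killed b ρ hρ htop hx hx0 h, R_top b ρ htop hv hv0] at hx
    exact hxP (Submodule.mem_sup_left hx)
  rcases eq_or_eq_of_mem_sup (lie_e_mem b hx i) hi (hPR ▸ hk i : ⁅b.e i, x⁆ ∈ R H ρ ⊔ R H (ρ - b.baseSupp j)) with h | h
  · have hψ : ρ - cnt b n = ρ - b.baseSupp i := by linear_combination (norm := abel) h
    rw [hψ] at hx
    obtain rfl := eq_j_of_mem b ρ hρ htop j hN hv hv0 hx hx0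
    rw [R_sub_eq b ρ hρ htop i hN hj hv hv0] at hx
    exact absurd (Submodule.mem_sup_right hx) hxP
  · have hψ : ρ - cnt b n = ρ - b.baseSupp j - b.baseSupp i := by linear_combination (norm := abel) h
    rw [hψ] at hx
    have hij : i ≠ j := fun h => by
      subst h
      rw [R_sub_two_eq_bot b ρ hρ htop i hN hj hv hv0] at hx
      exact hx0 ((Submodule.mem_bot K).1 hx)
    refine ⟨i, x, hij, hx, hx0, hxP, (Submodule.eq_of_le_of_finrank_le
      (sup_le hPW ((Submodule.span_singleton_le_iff_mem _ _).2 hxW)) ?_).symm⟩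
    have hlt : P < P ⊔ K ∙ x := left_lt_sup.2 fun h => hxP ((Submodule.span_singleton_le_iff_mem _ _).1 h)
    have h2 := Submodule.finrank_lt_finrank_of_lt hlt
    show finrank K W ≤ finrank K ↥(P ⊔ K ∙ x)
    omega

include hρ htop hN hj hst hv hv0 in
theorem conic (hW : finrank K W = 3) (q : QuadraticForm K W)
    (hq : ∀ (x : L) (hx : x ∈ H.toSubmodule ⊔ (b.borelUpper : Submodule K L)), ∃ c : K, ∀ w : W,
      QuadraticMap.polar q ⟨⁅x, (w : L)⁆, hst x hx w w.property⟩ w = c * q w) :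
    ∃ (ℓ : Module.Dual K W) (c : K), ∀ w : W, q w = c * ℓ w ^ 2 := by
  classical
  obtain ⟨i, x, hij, hx, hx0, hxP, hWeq⟩ := plane_data b ρ hρ htop j hN hj hv hv0 W hst hW
  have hvW : v ∈ W := hWeq ▸ Submodule.mem_sup_left (Submodule.mem_sup_left (Submodule.mem_span_singleton_self v))
  have huW : ⁅b.f j, v⁆ ∈ W := hWeq ▸ Submodule.mem_sup_left (Submodule.mem_sup_right (Submodule.mem_span_singleton_self _))
  have hxW : x ∈ W := hWeq ▸ Submodule.mem_sup_right (Submodule.mem_span_singleton_self x)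
  let V : W := ⟨v, hvW⟩
  let U : W := ⟨⁅b.f j, v⁆, huW⟩
  let X : W := ⟨x, hxW⟩
  let B : W → W → K := QuadraticMap.polar q
  -- the polarised semi-invariance
  have key : ∀ k, ∃ c : K, ∀ y z y' z' : W, (y' : L) = ⁅b.e k, (y : L)⁆ → (z' : L) = ⁅b.e k, (z : L)⁆ →
      B y' z + B z' y = c * B y z := by
    intro k
    obtain ⟨c, hc⟩ := hq (b.e k) (e_mem_borel b k)
    refine ⟨c, fun y z y' z' hy' hz' => ?_⟩
    have hy := hc y
    have hz := hc z
    have hyz := hc (y + z)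
    have e : (⟨⁅b.e k, ((y + z : W) : L)⁆, hst _ (e_mem_borel b k) _ (y + z).property⟩ : W) = y' + z' := by
      apply Subtype.ext
      simp [hy', hz', lie_add]
    rw [e] at hyz
    rw [show (⟨⁅b.e k, (y : L)⁆, hst _ (e_mem_borel b k) _ y.property⟩ : W) = y' from Subtype.ext hy'.symm] at hy
    rw [show (⟨⁅b.e k, (z : L)⁆, hst _ (e_mem_borel b k) _ z.property⟩ : W) = z' from Subtype.ext hz'.symm] at hz
    rw [QuadraticMap.polar_add_left, QuadraticMap.polar_add_right, QuadraticMap.polar_add_right, QuadraticMap.map_add q y z] at hyz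
    show QuadraticMap.polar q y' z + QuadraticMap.polar q z' y = c * QuadraticMap.polar q y z
    linear_combination hyz - hy - hz
  have hev : ∀ k, ((0 : W) : L) = ⁅b.e k, (V : L)⁆ := fun k => (lie_e_eq_zero b ρ htop hv k).symm
  have heju : (V : L) = ⁅b.e j, (U : L)⁆ := by
    show v = _; rw [lie_e_u b ρ htop j hj hv j, if_pos rfl]
  have heiu : ((0 : W) : L) = ⁅b.e i, (U : L)⁆ := by
    show (0 : L) = _; rw [lie_e_u b ρ htop j hj hv i, if_neg hij]
  obtain ⟨-, hkill, m, hm, hei⟩ := three_data b ρ hρ htop j hN hj hv hv0 hij hx hx0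
  have hejx : ((0 : W) : L) = ⁅b.e j, (X : L)⁆ := (hkill j (Ne.symm hij)).symm
  have heix : ((m • U : W) : L) = ⁅b.e i, (X : L)⁆ := hei.symm
  have hB0 : ∀ y, B 0 y = 0 := fun y => QuadraticMap.polar_zero_left q y
  have hBs : ∀ y z, B y z = B z y := fun y z => QuadraticMap.polar_comm q y z
  have hBm : ∀ y, B (m • U) y = m * B U y := fun y => QuadraticMap.polar_smul_left q m U y
  obtain ⟨c, hc⟩ := key j
  have a1 := hc V V 0 0 (hev j) (hev j)
  have a2 := hc U V V 0 heju (hev j)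
  have a3 := hc U U V V heju heju
  have a4 := hc X V 0 0 hejx (hev j)
  have a5 := hc X U 0 V hejx heju
  have a6 := hc X X 0 0 hejx hejx
  simp only [hB0, hBm, hBs V U, hBs V X, hBs U X, add_zero, zero_add] at a1 a2 a3 a4 a5 a6
  obtain ⟨c', hc'⟩ := key i
  have b1 := hc' U U 0 0 heiu heiu
  have b2 := hc' X U (m • U) 0 heix heiu
  have b3 := hc' X X (m • U) (m • U) heix heix
  simp only [hB0, hBm, hBs U X, add_zero, zero_add] at b1 b2 b3
  -- all but the last coefficient vanish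
  obtain ⟨hVV, hUV, hXV, hUU, hXU⟩ :
      B V V = 0 ∧ B U V = 0 ∧ B X V = 0 ∧ B U U = 0 ∧ B X U = 0 := by
    by_cases hc0 : c = 0
    · subst hc0
      simp only [zero_mul] at a2 a3 a5
      have hUV : B U V = 0 := by linear_combination a3 / 2
      by_cases hc0' : c' = 0
      · subst hc0'
        simp only [zero_mul, mul_eq_zero, hm, false_or] at b2
        simp only [zero_mul] at b3
        have : m * B X U = 0 := by linear_combination b3 / 2
        exact ⟨a2, hUV, a5, b2, (mul_eq_zero.1 this).resolve_left hm⟩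
      · have hUU : B U U = 0 := (mul_eq_zero.1 b1.symm).resolve_left hc0'
        rw [hUU, mul_zero] at b2
        exact ⟨a2, hUV, a5, hUU, (mul_eq_zero.1 b2.symm).resolve_left hc0'⟩
    · have hVV : B V V = 0 := (mul_eq_zero.1 a1.symm).resolve_left hc0
      rw [hVV] at a2
      have hUV : B U V = 0 := (mul_eq_zero.1 a2.symm).resolve_left hc0
      rw [hUV, add_zero] at a3
      have hXV : B X V = 0 := (mul_eq_zero.1 a4.symm).resolve_left hc0
      rw [hXV] at a5
      exact ⟨hVV, hUV, hXV, (mul_eq_zero.1 a3.symm).resolve_left hc0, (mul_eq_zero.1 a5.symm).resolve_left hc0⟩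
  have hqV : q V = 0 := by
    have h : B V V = 2 • q V := QuadraticMap.polar_self q V
    rw [hVV, two_nsmul] at h
    linear_combination -h / 2
  have hqU : q U = 0 := by
    have h : B U U = 2 • q U := QuadraticMap.polar_self q U
    rw [hUU, two_nsmul] at h
    linear_combination -h / 2
  obtain ⟨φ, hφx, hφP⟩ := Submodule.exists_dual_map_eq_bot_of_notMem hxP inferInstance
  have hφv : φ v = 0 := by
    have h : φ v ∈ ((K ∙ v) ⊔ K ∙ ⁅b.f j, v⁆).map φ :=
      Submodule.mem_map_of_mem (Submodule.mem_sup_left (Submodule.mem_span_singleton_self v))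
    rwa [hφP, Submodule.mem_bot] at h
  have hφu : φ ⁅b.f j, v⁆ = 0 := by
    have h : φ ⁅b.f j, v⁆ ∈ ((K ∙ v) ⊔ K ∙ ⁅b.f j, v⁆).map φ :=
      Submodule.mem_map_of_mem (Submodule.mem_sup_right (Submodule.mem_span_singleton_self _))
    rwa [hφP, Submodule.mem_bot] at h
  refine ⟨φ.comp W.subtype, q X / φ x ^ 2, fun w => ?_⟩
  have hw : (w : L) ∈ ((K ∙ v) ⊔ K ∙ ⁅b.f j, v⁆) ⊔ K ∙ x := hWeq ▸ w.2
  obtain ⟨p, hp, r, hr, hpr⟩ := Submodule.mem_sup.1 hw
  obtain ⟨p1, hp1, p2, hp2, rfl⟩ := Submodule.mem_sup.1 hp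
  obtain ⟨a, rfl⟩ := Submodule.mem_span_singleton.1 hp1
  obtain ⟨a', rfl⟩ := Submodule.mem_span_singleton.1 hp2
  obtain ⟨d, rfl⟩ := Submodule.mem_span_singleton.1 hr
  have hwW : w = a • V + a' • U + d • X := Subtype.ext hpr.symm
  have h1 : q (a • V + a' • U) = 0 := by
    rw [QuadraticMap.map_add q, QuadraticMap.map_smul q, QuadraticMap.map_smul q, hqV, hqU,
      QuadraticMap.polar_smul_left, QuadraticMap.polar_smul_right,
      show QuadraticMap.polar q V U = 0 from (hBs V U).trans hUV]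
    simp
  have h2 : QuadraticMap.polar q (a • V + a' • U) (d • X) = 0 := by
    rw [QuadraticMap.polar_smul_right, QuadraticMap.polar_add_left, QuadraticMap.polar_smul_left,
      QuadraticMap.polar_smul_left, show QuadraticMap.polar q V X = 0 from (hBs V X).trans hXV,
      show QuadraticMap.polar q U X = 0 from (hBs U X).trans hXU]
    simp
  have hφw : φ w = d * φ x := by
    show φ (w : L) = _
    rw [← hpr]
    simp [hφv, hφu]
  rw [hwW, QuadraticMap.map_add q, h1, h2, QuadraticMap.map_smul q, zero_add, add_zero, smul_eq_mul, ← hwW]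
  show d * d * q X = q X / φ x ^ 2 * φ (w : L) ^ 2
  rw [hφw]
  field_simp

end GrothLib.AdjVar13
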