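import Groth.Agent.Lib.AdjVar13.Main

/-!
# The subalgebra spanned by the twistor conic and the Borel-stable line
-/

set_option autoImplicit false
set_option linter.all false

universe u v w

open LieAlgebra LieModule Module

noncomputable section

namespace GrothLib.AdjVar13

variable {ι : Type u} {K : Type v} {L : Type w} [Fintype ι] [Field K] [CharZero K]
  [IsAlgClosed K] [LieRing L] [LieAlgebra K L] [FiniteDimensional K L] [LieAlgebra.IsSimple K L]
  {H : LieSubalgebra K L} [H.IsCartanSubalgebra] (b : LieAlgebra.Basis ι H)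

/-- The weight given by a nonzero weight vector. -/
def mkWeight {ψ : Dual K H} {x : L} (hx : x ∈ R H ψ) (hx0 : x ≠ 0) : Weight K H L :=
  ⟨ψ, fun h => hx0 (by
    have h' : x ∈ (rootSpace H ψ) := hx
    rw [show rootSpace H ψ = ⊥ from h] at h'
    simpa using h')⟩

theorem exists_neg_vector {ψ : Dual K H} {x : L} (hx : x ∈ R H ψ) (hx0 : x ≠ 0) :
    ∃ y, y ∈ R H (-ψ) ∧ y ≠ 0 := by
  obtain ⟨y, hy, hy0⟩ := (-mkWeight hx hx0).exists_ne_zero
  exact ⟨y, hy, hy0⟩

theorem R_line {ψ : Dual K H} {x : L} (hψ : ψ ≠ 0) (hx : x ∈ R H ψ) (hx0 : x ≠ 0) : R H ψ = K ∙ x := by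
  have h1 : finrank K (R H ψ) = 1 :=
    IsKilling.finrank_rootSpace_eq_one (mkWeight hx hx0) (fun h => hψ (DFunLike.coe_injective h))
  refine (Submodule.eq_of_le_of_finrank_le ((Submodule.span_singleton_le_iff_mem _ _).2 hx) ?_).symm
  rw [h1, finrank_span_singleton hx0]

variable (ρ : Dual K H) (hρ : rootSpace H ρ ≠ ⊥) (htop : ∀ i, rootSpace H (ρ + b.baseSupp i) = ⊥)
  (j : ι) (hN : ∀ i, ρ (b.h' i) ≠ 0 ↔ i = j) (hj : ρ (b.h' j) = 1)

include hρ htop hN hj in
/-- The five vectors and their brackets. -/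
theorem exists_table : ∃ e h f u g : L,
    R H ρ = K ∙ e ∧ R H (-ρ) = K ∙ f ∧ R H (ρ - b.baseSupp j) = K ∙ u ∧ R H (-b.baseSupp j) = K ∙ g ∧
    e ≠ 0 ∧ h ≠ 0 ∧ f ≠ 0 ∧ u ≠ 0 ∧ g ≠ 0 ∧
    ⁅h, e⁆ = (2 : K) • e ∧ ⁅h, f⁆ = (-2 : K) • f ∧ ⁅h, u⁆ = (1 : K) • u ∧ ⁅h, g⁆ = (-1 : K) • g ∧
    ⁅e, f⁆ = h ∧ ⁅e, u⁆ = 0 ∧ ⁅e, g⁆ = -u ∧ ⁅f, u⁆ = -g ∧ ⁅f, g⁆ = 0 ∧ ⁅u, g⁆ = 0 := by
  classical
  have hρ0 : ρ ≠ 0 := fun h => by simp [h] at hj
  obtain ⟨v, hv, hv0⟩ := exists_top_vector ρ hρ
  obtain ⟨h, e, f, t, he, hf⟩ :=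
    IsKilling.exists_isSl2Triple_of_weight_isNonZero (α := mkWeight hv hv0)
      (fun hz => hρ0 (DFunLike.coe_injective hz))
  replace he : e ∈ R H ρ := he
  replace hf : f ∈ R H (-ρ) := hf
  have hh : h ∈ R H (0 : Dual K H) := by
    rw [← t.lie_e_f, ← add_neg_cancel ρ]; exact lie_mem_R he hf
  have hhH : h ∈ H := by
    have h' : h ∈ (rootSpace H (0 : H → K)) := hh
    rwa [rootSpace_zero_eq, LieSubalgebra.mem_toLieSubmodule] at h'
  let g := b.f j
  let u := ⁅g, e⁆
  have hg : g ∈ R H (-b.baseSupp j) := f_mem b j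
  have hu : u ∈ R H (ρ - b.baseSupp j) := lie_f_mem b he j
  have hu0 : u ≠ 0 := u_ne_zero b ρ htop j hj he t.e_ne_zero
  let hc : H := ⟨h, hhH⟩
  have hρh : ρ hc = 2 := by
    have h1 : ⁅h, e⁆ = ρ hc • e := lie_eq_of_mem he hc
    rw [t.lie_h_e_smul K] at h1
    exact (smul_left_injective K t.e_ne_zero h1).symm
  let a := b.baseSupp j hc
  -- weight spaces which vanish
  have hbot1 : ∀ y, y ∈ R H (-ρ - b.baseSupp j) → y = 0 := fun y hy => by
    by_contra hy0
    obtain ⟨z, hz, hz0⟩ := exists_neg_vector hy hy0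
    rw [neg_sub, sub_neg_eq_add, add_comm] at hz
    exact hz0 (by
      have hz' : z ∈ rootSpace H (ρ + b.baseSupp j) := hz
      rw [htop j] at hz'
      simpa using hz')
  have heu : ⁅e, u⁆ = 0 := by
    by_contra hne
    obtain ⟨n, hn⟩ := exists_depth b ρ hρ htop (lie_mem_R he hu) hne
    obtain ⟨m, hm⟩ := exists_depth b ρ hρ htop hh t.h_ne_zero
    have hm' : ρ = cnt b m := by linear_combination (norm := abel) -hm
    have h0 : cnt b (n + m) = cnt b (Pi.single j 1) := by
      rw [cnt_add, cnt_single, ← hm']; linear_combination (norm := abel) hn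
    have hnm := cnt_injective b h0
    have hmz : ∀ k, k ≠ j → m k = 0 := fun k hk => by
      have := congrFun hnm k
      simp [Pi.single_apply, hk] at this
      exact this.2
    have hmj : m j ≤ 1 := by
      have := congrFun hnm j
      simp [Pi.single_apply] at this
      omega
    have hms : m = 0 ∨ m = Pi.single j 1 := by
      rcases Nat.le_one_iff_eq_zero_or_eq_one.1 hmj with h | h
      · exact Or.inl (funext fun k => if hk : k = j then hk ▸ h else hmz k hk)
      · refine Or.inr (funext fun k => ?_)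
        by_cases hk : k = j
        · subst hk; simp [h]
        · simp [hmz k hk, hk]
    rcases hms with h | h
    · exact hρ0 (by rw [hm', h, cnt_zero])
    · exact rho_ne_base b ρ j hN hj j (by rw [hm', h, cnt_single])
  have hfg : ⁅f, g⁆ = 0 := hbot1 _ (by rw [sub_eq_add_neg]; exact lie_mem_R hf hg)
  have hug : ⁅u, g⁆ = 0 := by
    have h1 : ⁅u, g⁆ ∈ R H (ρ - b.baseSupp j + -b.baseSupp j) := lie_mem_R hu hg
    rw [← sub_eq_add_neg, R_sub_two_eq_bot b ρ hρ htop j hN hj he t.e_ne_zero] at h1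
    exact (Submodule.mem_bot K).1 h1
  have hhg : ⁅h, g⁆ = (-a) • g := lie_eq_of_mem hg hc
  have hhu : ⁅h, u⁆ = (2 - a) • u := by
    have h1 : ⁅h, u⁆ = (ρ - b.baseSupp j) hc • u := lie_eq_of_mem hu hc
    rwa [LinearMap.sub_apply, hρh] at h1
  have hfu : ⁅f, u⁆ = (-a) • g := by
    show ⁅f, ⁅g, e⁆⁆ = _
    rw [leibniz_lie, hfg, zero_lie, zero_add, ← lie_skew f e, t.lie_e_f, lie_neg, lie_skew, hhg]
  have ha : a = 1 := by
    have P : t.HasPrimitiveVectorWith u (2 - a) := ⟨hu0, hhu, heu⟩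
    obtain ⟨n, hn⟩ := P.exists_nat
    have hn1 : n ≤ 1 := by
      by_contra hlt
      have h2 := P.pow_toEnd_f_ne_zero_of_eq_nat hn (i := 2) (by omega)
      apply h2
      simp only [pow_two, Module.End.mul_apply, toEnd_apply_apply, hfu, lie_smul, hfg, smul_zero]
    rcases Nat.le_one_iff_eq_zero_or_eq_one.1 hn1 with rfl | rfl
    · have h2 := P.pow_toEnd_f_eq_zero_of_eq_nat hn
      simp only [zero_add, pow_one, toEnd_apply_apply, hfu] at h2
      have ha2 : a = 2 := by rw [Nat.cast_zero] at hn; linear_combination -hn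
      simp [ha2, g, (b.sl2 j).f_ne_zero] at h2
    · rw [Nat.cast_one] at hn; linear_combination -hn
  refine ⟨e, h, f, u, g, R_top b ρ htop he t.e_ne_zero, R_line (neg_ne_zero.2 hρ0) hf t.f_ne_zero,
    ?_, R_line (neg_ne_zero.2 (b.linearIndependent_baseSupp.ne_zero j)) hg (b.sl2 j).f_ne_zero,
    t.e_ne_zero, t.h_ne_zero, t.f_ne_zero, hu0, (b.sl2 j).f_ne_zero, t.lie_h_e_smul K, ?_, ?_, ?_,
    t.lie_e_f, heu, ?_, ?_, hfg, hug⟩
  · exact le_antisymm (R_sub_le b ρ hρ htop j hN he t.e_ne_zero j)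
      ((Submodule.span_singleton_le_iff_mem _ _).2 hu)
  · have h1 : ⁅h, f⁆ = (-ρ) hc • f := lie_eq_of_mem hf hc
    rwa [LinearMap.neg_apply, hρh] at h1
  · rw [hhu, ha]; norm_num
  · rw [hhg, ha]
  · exact (lie_skew e g).symm
  · rw [hfu, ha, neg_one_smul]

include hρ htop hN hj in
theorem twistor (A : LieSubalgebra K L)
    (hA : A = LieSubalgebra.lieSpan K L
      ((rootSpace H ρ : Set L) ∪ (rootSpace H (-ρ) : Set L) ∪ (rootSpace H (ρ - b.baseSupp j) : Set L))) :
    Module.finrank K A = 5 ∧ Module.finrank K (LieAlgebra.radical K A) = 2 ∧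
      (LieAlgebra.radical K A).toSubmodule.map (A.incl : A →ₗ⁅K⁆ L).toLinearMap =
        (rootSpace H (ρ - b.baseSupp j) : Submodule K L) ⊔ (rootSpace H (-b.baseSupp j) : Submodule K L) := by
  obtain ⟨e, h, f, u, g, hRe, hRf, hRu, hRg, he0, hh0, hf0, hu0, hg0, he, hf, hu, hg, hef, heu, heg, hfu, hfg, hug⟩ :=
    exists_table b ρ hρ htop j hN hj
  let z : Fin 5 → L := ![e, h, f, u, g]
  let μ : Fin 5 → K := ![2, 0, -2, 1, -1]
  have hμ : Function.Injective μ := by
    intro p q hpq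
    fin_cases p <;> fin_cases q <;> first | rfl | (simp [μ] at hpq <;> norm_num at hpq)
  have hz : ∀ p, ⁅h, z p⁆ = μ p • z p := by
    intro p; fin_cases p <;> simp [z, μ, he, hf, hu, hg]
  have hz0 : ∀ p, z p ≠ 0 := by
    intro p; fin_cases p <;> simp [z, he0, hh0, hf0, hu0, hg0]
  let W : Submodule K L := Submodule.span K (Set.range z)
  have hli : LinearIndependent K z :=
    Module.End.eigenvectors_linearIndependent' (LieAlgebra.ad K L h) μ hμ z
      fun p => ⟨Module.End.mem_eigenspace_iff.2 (hz p), hz0 p⟩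
  -- brackets stay in the span
  have hzW : ∀ p, z p ∈ W := fun p => Submodule.subset_span ⟨p, rfl⟩
  have heW : e ∈ W := hzW 0
  have hhW : h ∈ W := hzW 1
  have hfW : f ∈ W := hzW 2
  have huW : u ∈ W := hzW 3
  have hgW : g ∈ W := hzW 4
  have htable : ∀ p q, ⁅z p, z q⁆ ∈ W := by
    have hskew : ∀ x y : L, ⁅x, y⁆ ∈ W → ⁅y, x⁆ ∈ W := fun x y hxy => by
      rw [← lie_skew]; exact W.neg_mem hxy
    intro p q
    fin_cases p <;> fin_cases q
    all_goals
      first
      | (simp [z]; done)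
      | (simp [z, he, hf, hu, hg, hef, heu, heg, hfu, hfg, hug, W.smul_mem _ heW, W.smul_mem _ hfW, heW, hhW, hfW, huW, hgW]; done)
      | (apply hskew; simp [z, he, hf, hu, hg, hef, heu, heg, hfu, hfg, hug, W.smul_mem _ heW, W.smul_mem _ hfW, heW, hhW, hfW, huW, hgW]; done)
  have hclosed : ∀ x ∈ W, ∀ y ∈ W, ⁅x, y⁆ ∈ W := by
    intro x hx y hy
    induction hx using Submodule.span_induction with
    | mem x hx =>
      obtain ⟨p, rfl⟩ := hx
      induction hy using Submodule.span_induction with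
      | mem y hy => obtain ⟨q, rfl⟩ := hy; exact htable p q
      | zero => rw [lie_zero]; exact W.zero_mem
      | add a c _ _ ha hc => rw [lie_add]; exact W.add_mem ha hc
      | smul t a _ ha => rw [lie_smul]; exact W.smul_mem t ha
    | zero => rw [zero_lie]; exact W.zero_mem
    | add a c _ _ ha hc => rw [add_lie]; exact W.add_mem ha hc
    | smul t a _ ha => rw [smul_lie]; exact W.smul_mem t ha
  have heA : e ∈ A := hA ▸ LieSubalgebra.subset_lieSpan (Or.inl (Or.inl (show e ∈ R H ρ by rw [hRe]; exact Submodule.mem_span_singleton_self e)))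
  have hfA : f ∈ A := hA ▸ LieSubalgebra.subset_lieSpan (Or.inl (Or.inr (show f ∈ R H (-ρ) by rw [hRf]; exact Submodule.mem_span_singleton_self f)))
  have huA : u ∈ A := hA ▸ LieSubalgebra.subset_lieSpan (Or.inr (show u ∈ R H (ρ - b.baseSupp j) by rw [hRu]; exact Submodule.mem_span_singleton_self u))
  have hhA : h ∈ A := hef ▸ A.lie_mem heA hfA
  have hgA : g ∈ A := by
    have := A.lie_mem hfA huA
    rw [hfu] at this
    exact neg_mem_iff.1 this
  let W' : LieSubalgebra K L := { W with lie_mem' := fun hx hy => hclosed _ hx _ hy }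
  have hAW : A.toSubmodule = W := by
    apply le_antisymm
    · have : A ≤ W' := by
        rw [hA, LieSubalgebra.lieSpan_le]
        rintro x ((hx | hx) | hx)
        · have : x ∈ R H ρ := hx
          rw [hRe] at this
          exact (Submodule.span_singleton_le_iff_mem _ _).2 heW this
        · have : x ∈ R H (-ρ) := hx
          rw [hRf] at this
          exact (Submodule.span_singleton_le_iff_mem _ _).2 hfW this
        · have : x ∈ R H (ρ - b.baseSupp j) := hx
          rw [hRu] at this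
          exact (Submodule.span_singleton_le_iff_mem _ _).2 huW this
      exact this
    · rw [Submodule.span_le]
      rintro _ ⟨p, rfl⟩
      fin_cases p <;> simp [z, heA, hhA, hfA, huA, hgA]
  refine ⟨?_, ?_⟩
  · show finrank K A.toSubmodule = 5
    rw [hAW, finrank_span_eq_card hli, Fintype.card_fin]
  -- the abelian ideal
  let N : Submodule K L := (K ∙ u) ⊔ K ∙ g
  have hNA : N ≤ A.toSubmodule := sup_le ((Submodule.span_singleton_le_iff_mem _ _).2 huA)
    ((Submodule.span_singleton_le_iff_mem _ _).2 hgA)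
  have huN : u ∈ N := Submodule.mem_sup_left (Submodule.mem_span_singleton_self u)
  have hgN : g ∈ N := Submodule.mem_sup_right (Submodule.mem_span_singleton_self g)
  have hideal : ∀ x ∈ W, ∀ y ∈ N, ⁅x, y⁆ ∈ N := by
    intro x hx y hy
    obtain ⟨y1, hy1, y2, hy2, rfl⟩ := Submodule.mem_sup.1 hy
    obtain ⟨c1, rfl⟩ := Submodule.mem_span_singleton.1 hy1
    obtain ⟨c2, rfl⟩ := Submodule.mem_span_singleton.1 hy2
    rw [lie_add, lie_smul, lie_smul]
    suffices ⁅x, u⁆ ∈ N ∧ ⁅x, g⁆ ∈ N from N.add_mem (N.smul_mem _ this.1) (N.smul_mem _ this.2)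
    clear hy hy1 hy2
    induction hx using Submodule.span_induction with
    | mem x hx =>
      obtain ⟨p, rfl⟩ := hx
      fin_cases p <;> simp [z, heu, heg, hu, hg, hfu, hfg, hug, huN, hgN, ← lie_skew g u]
    | zero => simp
    | add a c _ _ ha hc => rw [add_lie, add_lie]; exact ⟨N.add_mem ha.1 hc.1, N.add_mem ha.2 hc.2⟩
    | smul t a _ ha => rw [smul_lie, smul_lie]; exact ⟨N.smul_mem _ ha.1, N.smul_mem _ ha.2⟩
  let I : LieIdeal K A :=
    { N.comap A.incl.toLinearMap with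
      lie_mem := fun {x y} hy => hideal (x : L) (hAW ▸ x.2) (y : L) hy }
  have hIab : IsLieAbelian I := ⟨fun x y => by
    obtain ⟨x1, hx1, x2, hx2, hxe⟩ := Submodule.mem_sup.1 (x.2 : ((x : A) : L) ∈ N)
    obtain ⟨y1, hy1, y2, hy2, hye⟩ := Submodule.mem_sup.1 (y.2 : ((y : A) : L) ∈ N)
    obtain ⟨c1, rfl⟩ := Submodule.mem_span_singleton.1 hx1
    obtain ⟨c2, rfl⟩ := Submodule.mem_span_singleton.1 hx2
    obtain ⟨d1, rfl⟩ := Submodule.mem_span_singleton.1 hy1
    obtain ⟨d2, rfl⟩ := Submodule.mem_span_singleton.1 hy2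
    apply Subtype.ext; apply Subtype.ext
    show ⁅((x : A) : L), ((y : A) : L)⁆ = 0
    rw [show ((x : A) : L) = c1 • u + c2 • g from hxe.symm, show ((y : A) : L) = d1 • u + d2 • g from hye.symm]
    simp [hug, ← lie_skew g u]⟩
  haveI := hIab
  have hIle : I ≤ radical K A := (LieIdeal.solvable_iff_le_radical (R := K) (L := A) I).1 inferInstance
  -- nothing else is solvable
  have hle : radical K A ≤ I := by
    intro x hx
    by_contra hxI
    have hxW : (x : L) ∈ W := hAW ▸ x.2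
    obtain ⟨c, hc⟩ := (Submodule.mem_span_range_iff_exists_fun K).1 hxW
    let J : Submodule K L := (radical K A).toSubmodule.map A.incl.toLinearMap
    have hJlie : ∀ y ∈ J, ∀ a ∈ A, ⁅a, y⁆ ∈ J := by
      rintro _ ⟨y, hy, rfl⟩ a ha
      exact ⟨⁅(⟨a, ha⟩ : A), y⁆, (radical K A).lie_mem hy, rfl⟩
    have hcomp : ∀ p ∈ (Finset.univ : Finset (Fin 5)), c p • z p ∈ J :=
      component_mem (α := Unit) (fun _ => LieAlgebra.ad K L h) J (fun _ y hy => hJlie y hy h hhA)
        (fun p _ => μ p) Finset.univ (fun p _ q _ hpq => hμ (congrFun hpq ())) (fun p => c p • z p)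
        (fun p _ _ => by rw [LieAlgebra.ad_apply, lie_smul, hz, smul_comm]) (by rw [hc]; exact ⟨x, hx, rfl⟩)
    -- some of the three `sl₂` vectors lies in the radical
    have hone : e ∈ J ∨ h ∈ J ∨ f ∈ J := by
      by_contra hno
      simp only [not_or] at hno
      obtain ⟨ne, nh, nf⟩ := hno
      have hcz : ∀ p : Fin 5, z p ∉ J → c p = 0 := fun p hp => by
        by_contra hcp; exact hp ((J.smul_mem_iff hcp).1 (hcomp p (Finset.mem_univ p)))
      apply hxI
      show (x : L) ∈ N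
      rw [← hc, Fin.sum_univ_five, hcz 0 ne, hcz 1 nh, hcz 2 nf, zero_smul, zero_smul, zero_smul]
      simp only [zero_add]
      exact N.add_mem (N.smul_mem _ huN) (N.smul_mem _ hgN)
    have hall : e ∈ J ∧ h ∈ J ∧ f ∈ J := by
      have hh' : h ∈ J := by
        rcases hone with h1 | h1 | h1
        · have := hJlie _ h1 f hfA
          rw [← lie_skew f e, hef] at this
          exact neg_mem_iff.1 this
        · exact h1
        · have := hJlie _ h1 e heA
          rwa [hef] at this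
      refine ⟨?_, hh', ?_⟩
      · have := hJlie _ hh' e heA
        rw [← lie_skew e h, he, neg_mem_iff] at this
        exact (J.smul_mem_iff two_ne_zero).1 this
      · have := hJlie _ hh' f hfA
        rw [← lie_skew f h, hf, neg_mem_iff] at this
        exact (J.smul_mem_iff (neg_ne_zero.2 two_ne_zero)).1 this
    -- these survive in every derived ideal
    have hder : ∀ n, (⟨e, heA⟩ : A) ∈ derivedSeriesOfIdeal K A n (radical K A) ∧
        (⟨h, hhA⟩ : A) ∈ derivedSeriesOfIdeal K A n (radical K A) ∧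
        (⟨f, hfA⟩ : A) ∈ derivedSeriesOfIdeal K A n (radical K A) := by
      intro n
      induction n with
      | zero =>
        obtain ⟨⟨y1, hy1, e1⟩, ⟨y2, hy2, e2⟩, ⟨y3, hy3, e3⟩⟩ := hall
        obtain rfl : y1 = ⟨e, heA⟩ := Subtype.ext e1
        obtain rfl : y2 = ⟨h, hhA⟩ := Subtype.ext e2
        obtain rfl : y3 = ⟨f, hfA⟩ := Subtype.ext e3
        exact ⟨hy1, hy2, hy3⟩
      | succ n ih =>
        rw [derivedSeriesOfIdeal_succ]
        set D := derivedSeriesOfIdeal K A n (radical K A)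
        refine ⟨?_, ?_, ?_⟩
        · have h1 : ⁅(⟨h, hhA⟩ : A), (⟨e, heA⟩ : A)⁆ ∈ ⁅D, D⁆ := LieSubmodule.lie_mem_lie ih.2.1 ih.1
          rw [show ⁅(⟨h, hhA⟩ : A), (⟨e, heA⟩ : A)⁆ = (2 : K) • (⟨e, heA⟩ : A) from Subtype.ext he] at h1
          exact ((⁅D, D⁆ : LieIdeal K A).toSubmodule.smul_mem_iff two_ne_zero).1 h1
        · have h1 : ⁅(⟨e, heA⟩ : A), (⟨f, hfA⟩ : A)⁆ ∈ ⁅D, D⁆ := LieSubmodule.lie_mem_lie ih.1 ih.2.2
          rwa [show ⁅(⟨e, heA⟩ : A), (⟨f, hfA⟩ : A)⁆ = (⟨h, hhA⟩ : A) from Subtype.ext hef] at h1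
        · have h1 : ⁅(⟨h, hhA⟩ : A), (⟨f, hfA⟩ : A)⁆ ∈ ⁅D, D⁆ := LieSubmodule.lie_mem_lie ih.2.1 ih.2.2
          rw [show ⁅(⟨h, hhA⟩ : A), (⟨f, hfA⟩ : A)⁆ = (-2 : K) • (⟨f, hfA⟩ : A) from Subtype.ext hf] at h1
          exact ((⁅D, D⁆ : LieIdeal K A).toSubmodule.smul_mem_iff (neg_ne_zero.2 two_ne_zero)).1 h1
    haveI : IsSolvable (radical K A) := inferInstance
    obtain ⟨n, hn⟩ := (isSolvable_iff K (radical K A)).1 inferInstance
    rw [LieIdeal.derivedSeries_eq_bot_iff] at hn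
    have := (hder n).2.1
    rw [hn] at this
    exact hh0 (congrArg Subtype.val ((LieSubmodule.mem_bot _).1 this))
  rw [le_antisymm hle hIle]
  have hmap : I.toSubmodule.map A.incl.toLinearMap = N := by
    show (N.comap A.incl.toLinearMap).map A.incl.toLinearMap = N
    refine Submodule.map_comap_eq_self fun y hy => ?_
    exact ⟨⟨y, hNA hy⟩, rfl⟩
  refine ⟨?_, hmap.trans ?_⟩
  · have hN2 : finrank K N = 2 := by
      have hli2 : LinearIndependent K ![u, g] := by
        have := hli.comp ![3, 4] (by decide)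
        convert this using 1
        ext p; fin_cases p <;> rfl
      have hN' : N = Submodule.span K (Set.range ![u, g]) := by
        rw [Matrix.range_cons, Matrix.range_cons, Matrix.range_empty, Set.union_empty, Submodule.span_union]
      rw [hN', finrank_span_eq_card hli2, Fintype.card_fin]
    rw [← hN2, ← hmap]
    exact (Submodule.equivMapOfInjective A.incl.toLinearMap Subtype.val_injective I.toSubmodule).finrank_eq
  · show N = R H (ρ - b.baseSupp j) ⊔ R H (-b.baseSupp j)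
    rw [hRu, hRg]

end GrothLib.AdjVar13
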